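import Mathlib
import Cfsg.Agent.H500.Gs.SpTwoA
import Cfsg.Agent.LieClassical.SympCenter
import Cfsg.Agent.S0814
import Cfsg.Agent.FastGrp
import Cfsg.Agent.Prune
set_option linter.all false

section
prune_inst 0x7f00000000000000000000000000000000000000000000000000000000000000000000000000000000000000000000000000000000000000000000000000000000000000000000000000000000000000003fffffffffffffffffffffffffffbeffbdffffffff

-- part: H500/Gs/SpTwoB
section
set_option linter.all false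
open scoped Cfsg.Agent.FastGrp

/-!
# `Sp_{2m}(2)`: the two types of elements; the start and the growth (helper500), S4327
-/

set_option autoImplicit false

namespace Cfsg.Agent.H500.Gs

open Subgroup Cfsg.Agent.H107.SpTr Cfsg.Agent.ClassicalGeometry.SympBasic

variable {m : ℕ} {F : Type*} [Field F]

local notation "⟪" u ", " v "⟫" => Cfsg.sympForm m F u v

/-- hyperbolic pairs are conjugate -/
theorem exists_hyp {u v u' v' : Fin m ⊕ Fin m → F} (h : ⟪u, v⟫ = 1) (h' : ⟪u', v'⟫ = 1) :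
    ∃ g : Matrix.symplecticGroup (Fin m) F, act g u = u' ∧ act g v = v' := by
  obtain ⟨A, -, h1, h2⟩ := exists_transvGroup_hyperbolic h h'
  exact ⟨A, h1, h2⟩

theorem Two.exists_both (h : Two F) {u v : Fin m ⊕ Fin m → F} (hu : u ≠ 0) (hv : v ≠ 0) :
    ∃ w, ⟪u, w⟫ = 1 ∧ ⟪v, w⟫ = 1 := by
  obtain ⟨w, h1, h2⟩ := exists_both_ne_zero hu hv
  exact ⟨w, h.eq_one h1, h.eq_one h2⟩

theorem Two.exists_one_zero (h : Two F) {u v : Fin m ⊕ Fin m → F} (hu : u ≠ 0) (huv : u ≠ v) :
    ∃ w, ⟪u, w⟫ = 1 ∧ ⟪v, w⟫ = 0 := by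
  have h1 : u + v ≠ 0 := fun h2 => huv (h.vadd_eq_zero h2)
  obtain ⟨w, hw1, hw2⟩ := h.exists_both hu h1
  refine ⟨w, hw1, ?_⟩
  rw [sympForm_add_left, hw1] at hw2
  linear_combination hw2

/-- orthogonal pairs are conjugate -/
theorem Two.exists_orth (h : Two F) {u v u' v' : Fin m ⊕ Fin m → F} (hu : u ≠ 0) (hv : v ≠ 0) (huv : u ≠ v)
    (huv0 : ⟪u, v⟫ = 0) (hu' : u' ≠ 0) (hv' : v' ≠ 0) (huv' : u' ≠ v') (huv0' : ⟪u', v'⟫ = 0) :
    ∃ g : Matrix.symplecticGroup (Fin m) F, act g u = u' ∧ act g v = v' := by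
  obtain ⟨w, hw1, hw2⟩ := h.exists_one_zero hu huv
  obtain ⟨w', hw1', hw2'⟩ := h.exists_one_zero hu' huv'
  obtain ⟨g, hg1, hg2⟩ := exists_hyp hw1 hw1'
  have hx0 : act g v ≠ 0 := fun h0 => hv (act_inj g (by rw [h0, act_zero]))
  have hxu : ⟪act g v, u'⟫ = 0 := by rw [← hg1, form_act, h.comm, huv0]
  have hxw : ⟪act g v, w'⟫ = 0 := by rw [← hg2, form_act, hw2]
  have hvu : ⟪v', u'⟫ = 0 := by rw [h.comm, huv0']
  have key : ∃ k : Matrix.symplecticGroup (Fin m) F, act k u' = u' ∧ act k (act g v) = v' := by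
    generalize act g v = x at hx0 hxu hxw
    obtain ⟨z₀, h1, h2⟩ := h.exists_both hx0 hv'
    have hz : ∃ z, ⟪u', z⟫ = 0 ∧ ⟪x, z⟫ = 1 ∧ ⟪v', z⟫ = 1 := by
      refine ⟨z₀ + ⟪u', z₀⟫ • w', ?_, ?_, ?_⟩
      · rw [sympForm_add_right, sympForm_smul_right, hw1', mul_one, h.add_self]
      · rw [sympForm_add_right, sympForm_smul_right, hxw, h1, mul_zero, add_zero]
      · rw [sympForm_add_right, sympForm_smul_right, hw2', h2, mul_zero, add_zero]
    obtain ⟨z, hz0, hz1, hz2⟩ := hz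
    refine ⟨t (z + v') * t (x + z), ?_, ?_⟩
    · rw [act_mul, act_t (x + z), sympForm_add_right, h.comm u' x, hxu, hz0, add_zero, zero_smul, add_zero, act_t,
        sympForm_add_right, hz0, huv0', add_zero, zero_smul, add_zero]
    · rw [act_mul, act_t (x + z), sympForm_add_right, sympForm_self, hz1, zero_add, one_smul, h.vadd_cancel, act_t,
        sympForm_add_right, sympForm_self, h.comm z v', hz2, zero_add, one_smul, h.vadd_cancel]
  obtain ⟨k, hk1, hk2⟩ := key
  exact ⟨k * g, by rw [act_mul, hg1, hk1], by rw [act_mul, hk2]⟩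

/-- type `A` -/
def TA (x : Matrix.symplecticGroup (Fin m) F) : Prop := ∀ u v, ⟪u, v⟫ = 1 → RS x 2 (zpowers (t u * t v))

/-- type `B` -/
def TB (x : Matrix.symplecticGroup (Fin m) F) : Prop :=
  ∀ u v, u ≠ 0 → v ≠ 0 → u ≠ v → ⟪u, v⟫ = 0 → RS x 2 (zpowers (t u * t v))

theorem RS_pair (h : Two F) (x : Matrix.symplecticGroup (Fin m) F) (z : Fin m ⊕ Fin m → F) :
    RS x 2 (zpowers (t z * t (act x z))) := by
  have h1 := RS.comm' x (t z)
  rwa [h.t_inv, mul_assoc, mul_assoc, ← mul_assoc x, conj_t] at h1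

theorem RS_pair_conj (h : Two F) (x : Matrix.symplecticGroup (Fin m) F) (z : Fin m ⊕ Fin m → F)
    (g : Matrix.symplecticGroup (Fin m) F) : RS x 2 (zpowers (t (act g z) * t (act g (act x z)))) := by
  have h1 := (RS_pair h x z).zpow_conj g
  have h2 : g * (t z * t (act x z)) * g⁻¹ = g * t z * g⁻¹ * (g * t (act x z) * g⁻¹) := by group
  rwa [h2, conj_t, conj_t] at h1

theorem types (h : Two F) {x : Matrix.symplecticGroup (Fin m) F} (hx : x ≠ 1) :
    TA x ∨ (TB x ∧ ∀ z, ⟪z, act x z⟫ = 0) := by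
  by_cases hA : ∃ z, ⟪z, act x z⟫ = 1
  · left
    intro u v huv
    obtain ⟨z, hz⟩ := hA
    obtain ⟨g, hg1, hg2⟩ := exists_hyp hz huv
    have := RS_pair_conj h x z g
    rwa [hg1, hg2] at this
  · push Not at hA
    have hA' : ∀ z, ⟪z, act x z⟫ = 0 := fun z => (h _).resolve_right (hA z)
    right
    refine ⟨fun u v hu hv huv h0 => ?_, hA'⟩
    obtain ⟨z, hz⟩ : ∃ z, act x z ≠ z := by
      by_contra hc
      push Not at hc
      exact hx (ext_act fun y => by rw [hc, act_one])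
    have hz0 : z ≠ 0 := by
      rintro rfl
      exact hz (act_zero x)
    have hz1 : act x z ≠ 0 := fun h1 => hz0 (act_inj x (by rw [h1, act_zero]))
    obtain ⟨g, hg1, hg2⟩ := h.exists_orth hz0 hz1 hz.symm (hA' z) hu hv huv h0
    have := RS_pair_conj h x z g
    rwa [hg1, hg2] at this

/-! ### The standard basis -/

/-- `e i` -/
def e (i : Fin m) : Fin m ⊕ Fin m → F := Pi.single (Sum.inl i) 1

/-- `f i` -/
def f (i : Fin m) : Fin m ⊕ Fin m → F := Pi.single (Sum.inr i) 1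

theorem Two.form_e (_ : Two F) (u : Fin m ⊕ Fin m → F) (i : Fin m) : ⟪u, e i⟫ = u (Sum.inr i) :=
  sympForm_single_inl_right i u

theorem Two.form_f (h : Two F) (u : Fin m ⊕ Fin m → F) (i : Fin m) : ⟪u, f i⟫ = u (Sum.inl i) := by
  rw [f, sympForm_single_inr_right, h.neg]

theorem e_inl (i j : Fin m) : (e i : Fin m ⊕ Fin m → F) (Sum.inl j) = if j = i then 1 else 0 := by
  rw [e, Pi.single_apply]
  simp

theorem e_inr (i j : Fin m) : (e i : Fin m ⊕ Fin m → F) (Sum.inr j) = 0 := by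
  rw [e, Pi.single_apply]
  simp

theorem f_inl (i j : Fin m) : (f i : Fin m ⊕ Fin m → F) (Sum.inl j) = 0 := by
  rw [f, Pi.single_apply]
  simp

theorem f_inr (i j : Fin m) : (f i : Fin m ⊕ Fin m → F) (Sum.inr j) = if j = i then 1 else 0 := by
  rw [f, Pi.single_apply]
  simp

/-- the vectors supported on the first `k` coordinates -/
def Ak (m : ℕ) (F : Type*) [Field F] (k : ℕ) : Submodule F (Fin m ⊕ Fin m → F) where
  carrier := {x | ∀ i : Fin m, k ≤ i → x (Sum.inl i) = 0 ∧ x (Sum.inr i) = 0}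
  add_mem' := by
    intro x y hx hy i hi
    rw [Pi.add_apply, Pi.add_apply, (hx i hi).1, (hx i hi).2, (hy i hi).1, (hy i hi).2]
    simp
  zero_mem' := fun i hi => ⟨rfl, rfl⟩
  smul_mem' := by
    intro c x hx i hi
    rw [Pi.smul_apply, Pi.smul_apply, (hx i hi).1, (hx i hi).2]
    simp

theorem e_mem {k : ℕ} {i : Fin m} (hi : (i : ℕ) < k) : (e i : Fin m ⊕ Fin m → F) ∈ Ak m F k := by
  intro j hj
  rw [e_inl, e_inr, if_neg (by rintro rfl; omega)]
  exact ⟨rfl, rfl⟩

theorem f_mem {k : ℕ} {i : Fin m} (hi : (i : ℕ) < k) : (f i : Fin m ⊕ Fin m → F) ∈ Ak m F k := by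
  intro j hj
  rw [f_inl, f_inr, if_neg (by rintro rfl; omega)]
  exact ⟨rfl, rfl⟩

theorem Ak_top (x : Fin m ⊕ Fin m → F) : x ∈ Ak m F m := by
  intro i hi
  exact absurd i.2 (by omega)

theorem Two.Ak_nd (h : Two F) {k : ℕ} : ∀ u ∈ Ak m F k, u ≠ 0 → ∃ w ∈ Ak m F k, ⟪u, w⟫ = 1 := by
  intro u hu hu0
  obtain ⟨j, hj⟩ : ∃ j, u j ≠ 0 := by
    by_contra hc
    push Not at hc
    exact hu0 (funext hc)
  rcases j with j | j
  · have hjk : (j : ℕ) < k := by
      by_contra hc
      exact hj (hu j (by omega)).1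
    exact ⟨f j, f_mem hjk, by rw [h.form_f]; exact h.eq_one hj⟩
  · have hjk : (j : ℕ) < k := by
      by_contra hc
      exact hj (hu j (by omega)).2
    exact ⟨e j, e_mem hjk, by rw [h.form_e]; exact h.eq_one hj⟩

theorem Two.Ak_both (h : Two F) {k : ℕ} {u v : Fin m ⊕ Fin m → F} (hu : u ∈ Ak m F k) (hv : v ∈ Ak m F k)
    (hu0 : u ≠ 0) (hv0 : v ≠ 0) : ∃ w ∈ Ak m F k, ⟪u, w⟫ = 1 ∧ ⟪v, w⟫ = 1 := by
  obtain ⟨w1, hw1, h1⟩ := h.Ak_nd u hu hu0
  obtain ⟨w2, hw2, h2⟩ := h.Ak_nd v hv hv0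
  rcases h (⟪v, w1⟫) with h3 | h3
  · rcases h (⟪u, w2⟫) with h4 | h4
    · exact ⟨w1 + w2, Submodule.add_mem _ hw1 hw2, by rw [sympForm_add_right, h1, h4, add_zero],
        by rw [sympForm_add_right, h3, h2, zero_add]⟩
    · exact ⟨w2, hw2, h4, h2⟩
  · exact ⟨w1, hw1, h1, h3⟩

theorem Two.nd_Ak (h : Two F) {k : ℕ} (hk : 2 ≤ k) (hkm : k ≤ m) : Nd (Ak m F k) := by
  refine ⟨h.Ak_nd, fun u hu hu0 => ?_⟩
  · have h0 : 0 < m := by omega
    have h1 : 1 < m := by omega
    have hne : (⟨1, h1⟩ : Fin m) ≠ ⟨0, h0⟩ := by simp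
    have he0 : (e ⟨0, h0⟩ : Fin m ⊕ Fin m → F) ≠ 0 := by
      intro hc
      have := congrFun hc (Sum.inl ⟨0, h0⟩)
      rw [e_inl, if_pos rfl] at this
      exact one_ne_zero this
    have he1 : (e ⟨1, h1⟩ : Fin m ⊕ Fin m → F) ≠ 0 := by
      intro hc
      have := congrFun hc (Sum.inl ⟨1, h1⟩)
      rw [e_inl, if_pos rfl] at this
      exact one_ne_zero this
    have he01 : (e ⟨1, h1⟩ : Fin m ⊕ Fin m → F) ≠ e ⟨0, h0⟩ := by
      intro hc
      have := congrFun hc (Sum.inl ⟨1, h1⟩)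
      rw [e_inl, e_inl, if_pos rfl, if_neg hne] at this
      exact one_ne_zero this
    have m0 : (e ⟨0, h0⟩ : Fin m ⊕ Fin m → F) ∈ Ak m F k := e_mem (by simp; omega)
    have m1 : (e ⟨1, h1⟩ : Fin m ⊕ Fin m → F) ∈ Ak m F k := e_mem (by simp; omega)
    by_cases hu1 : u = e ⟨0, h0⟩
    · exact ⟨e ⟨1, h1⟩, m1, he1, by rw [hu1]; exact he01, by rw [hu1, h.form_e, e_inr]⟩
    · rcases h (⟪u, e ⟨0, h0⟩⟫) with h2 | h2
      · exact ⟨e ⟨0, h0⟩, m0, he0, fun hc => hu1 hc.symm, h2⟩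
      · rcases h (⟪u, e ⟨1, h1⟩⟫) with h3 | h3
        · refine ⟨e ⟨1, h1⟩, m1, he1, ?_, h3⟩
          rintro rfl
          rw [h.form_e, e_inr] at h2
          exact zero_ne_one h2
        · refine ⟨e ⟨0, h0⟩ + e ⟨1, h1⟩, Submodule.add_mem _ m0 m1, fun hc => ?_, ?_, ?_⟩
          · exact he01 (h.vadd_eq_zero hc).symm
          · rintro rfl
            rw [sympForm_add_left, h.form_e, h.form_e, e_inr, e_inr, add_zero] at h2
            exact zero_ne_one h2
          · rw [sympForm_add_right, h2, h3, h.one_add]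

/-- decomposition of `A_{k+1}` -/
theorem Two.Ak_succ (h : Two F) {k : ℕ} (hk : k < m) {x : Fin m ⊕ Fin m → F} (hx : x ∈ Ak m F (k + 1)) :
    ∃ a ∈ Ak m F k, ∃ α β : F, x = a + α • e ⟨k, hk⟩ + β • f ⟨k, hk⟩ := by
  refine ⟨x + x (Sum.inl ⟨k, hk⟩) • e ⟨k, hk⟩ + x (Sum.inr ⟨k, hk⟩) • f ⟨k, hk⟩, ?_, x (Sum.inl ⟨k, hk⟩),
    x (Sum.inr ⟨k, hk⟩), ?_⟩
  · intro i hi
    simp only [Pi.add_apply, Pi.smul_apply, smul_eq_mul, e_inl, e_inr, f_inl, f_inr]
    by_cases hik : i = ⟨k, hk⟩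
    · subst hik
      simp only [if_true, mul_one, mul_zero, add_zero, h.add_self, and_self]
    · rw [if_neg hik]
      have h1 : k + 1 ≤ (i : ℕ) := by
        have : (i : ℕ) ≠ k := fun h2 => hik (Fin.ext h2)
        omega
      rw [(hx i h1).1, (hx i h1).2]
      simp
  · have h1 := h.vadd (x (Sum.inl ⟨k, hk⟩) • (e ⟨k, hk⟩ : Fin m ⊕ Fin m → F))
    have h2 := h.vadd (x (Sum.inr ⟨k, hk⟩) • (f ⟨k, hk⟩ : Fin m ⊕ Fin m → F))
    calc x = x + (x (Sum.inl ⟨k, hk⟩) • (e ⟨k, hk⟩ : Fin m ⊕ Fin m → F) + x (Sum.inl ⟨k, hk⟩) • e ⟨k, hk⟩) +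
        (x (Sum.inr ⟨k, hk⟩) • (f ⟨k, hk⟩ : Fin m ⊕ Fin m → F) + x (Sum.inr ⟨k, hk⟩) • f ⟨k, hk⟩) := by
          rw [h1, h2, add_zero, add_zero]
      _ = _ := by abel

end Cfsg.Agent.H500.Gs

private theorem dce_49c3d32ac6b5 : _root_.True := by
  try have : _root_.True := by simp only [_root_.Cfsg.Agent.H500.Gs.e.eq_1]
  try have : _root_.True := by simp only [_root_.Cfsg.Agent.H500.Gs.f.eq_1]
  exact _root_.True.intro
end

-- part: H500/Gs/SpTwoC
section
set_option linter.all false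
open scoped Cfsg.Agent.FastGrp

/-!
# `Sp_{2m}(2)`: start and growth (helper500), S4327
-/

set_option autoImplicit false
set_option linter.unusedSimpArgs false

namespace Cfsg.Agent.H500.Gs

open Subgroup Cfsg.Agent.H107.SpTr Cfsg.Agent.ClassicalGeometry.SympBasic

variable {m : ℕ} {F : Type*} [Field F]

local notation "⟪" u ", " v "⟫" => Cfsg.sympForm m F u v

theorem C1.add' {P : Set (Fin m ⊕ Fin m → F)} (hP : C1 P) {u v w : Fin m ⊕ Fin m → F} (hu : u ∈ P) (hv : v ∈ P)
    (huv : ⟪u, v⟫ = 1) (hw : w = u + v) : w ∈ P := by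
  rw [hw]
  exact hP u hu v hv huv

/-- fifteen vectors from five -/
theorem C1.fifteen (h : Two F) {P : Set (Fin m ⊕ Fin m → F)} (hP : C1 P) {a b c d : Fin m ⊕ Fin m → F}
    (hab : ⟪a, b⟫ = 1) (hcd : ⟪c, d⟫ = 1) (hac : ⟪a, c⟫ = 0) (had : ⟪a, d⟫ = 0) (hbc : ⟪b, c⟫ = 0)
    (hbd : ⟪b, d⟫ = 0) (pa : a ∈ P) (pb : b ∈ P) (pc : c ∈ P) (pd : d ∈ P) (pac : a + c ∈ P)
    (α β γ δ : F) (hne : α • a + β • b + γ • c + δ • d ≠ 0) : α • a + β • b + γ • c + δ • d ∈ P := by
  have hba : ⟪b, a⟫ = 1 := by rw [h.comm, hab]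
  have hdc : ⟪d, c⟫ = 1 := by rw [h.comm, hcd]
  have hca : ⟪c, a⟫ = 0 := by rw [h.comm, hac]
  have hda : ⟪d, a⟫ = 0 := by rw [h.comm, had]
  have hcb : ⟪c, b⟫ = 0 := by rw [h.comm, hbc]
  have hdb : ⟪d, b⟫ = 0 := by rw [h.comm, hbd]
  have two := h.one_add
  have pab : a + b ∈ P := hP a pa b pb hab
  have pcd : c + d ∈ P := hP c pc d pd hcd
  have pabc : a + b + c ∈ P := hP.add' pac pb (by simp [sympForm_add_left, *])
    (by ext i; simp only [Pi.add_apply]; ring)
  have pacd : a + c + d ∈ P := hP.add' pac pd (by simp [sympForm_add_left, *]) rfl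
  have pabcd : a + b + c + d ∈ P := hP.add' pabc pd (by simp [sympForm_add_left, *]) rfl
  have pbc : b + c ∈ P := hP.add' pabc pa (by simp [sympForm_add_left, *])
    (by ext i; simp only [Pi.add_apply]; linear_combination (-(a i)) * two)
  have pbcd : b + c + d ∈ P := hP.add' pbc pd (by simp [sympForm_add_left, *]) rfl
  have pbd : b + d ∈ P := hP.add' pbcd pc (by simp [sympForm_add_left, *])
    (by ext i; simp only [Pi.add_apply]; linear_combination (-(c i)) * two)
  have pad : a + d ∈ P := hP.add' pacd pc (by simp [sympForm_add_left, *])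
    (by ext i; simp only [Pi.add_apply]; linear_combination (-(c i)) * two)
  have pabd : a + b + d ∈ P := hP.add' pad pb (by simp [sympForm_add_left, *])
    (by ext i; simp only [Pi.add_apply]; ring)
  rcases h α with rfl | rfl <;> rcases h β with rfl | rfl <;> rcases h γ with rfl | rfl <;> rcases h δ with rfl | rfl
  · exact absurd (by simp) hne
  all_goals simpa only [zero_smul, one_smul, zero_add, add_zero]

theorem Two.ee (h : Two F) (i j : Fin m) : ⟪e i, e j⟫ = 0 := by rw [h.form_e, e_inr]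
theorem Two.ff (h : Two F) (i j : Fin m) : ⟪f i, f j⟫ = 0 := by rw [h.form_f, f_inl]
theorem Two.ef (h : Two F) (i j : Fin m) : ⟪e i, f j⟫ = if j = i then 1 else 0 := by rw [h.form_f, e_inl]
theorem Two.fe (h : Two F) (i j : Fin m) : ⟪f i, e j⟫ = if j = i then 1 else 0 := by rw [h.form_e, f_inr]

theorem Two.fill (h : Two F) {P : Set (Fin m ⊕ Fin m → F)} (hP : C1 P) (h0 : 0 < m) (h1 : 1 < m)
    (pa : e ⟨0, h0⟩ ∈ P) (pb : f ⟨0, h0⟩ ∈ P) (pc : e ⟨1, h1⟩ ∈ P) (pd : f ⟨1, h1⟩ ∈ P)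
    (pac : e ⟨0, h0⟩ + e ⟨1, h1⟩ ∈ P) : ∀ v ∈ Ak m F 2, v ≠ 0 → v ∈ P := by
  intro v hv hv0
  obtain ⟨a, ha, γ, δ, rfl⟩ := h.Ak_succ h1 hv
  obtain ⟨b, hb, α, β, rfl⟩ := h.Ak_succ h0 ha
  have hb0 : b = 0 := by
    ext j
    rcases j with j | j
    · exact (hb j (Nat.zero_le _)).1
    · exact (hb j (Nat.zero_le _)).2
  subst hb0
  rw [zero_add] at hv0 ⊢
  refine C1.fifteen h hP ?_ ?_ ?_ ?_ ?_ ?_ pa pb pc pd pac α β γ δ hv0
  · rw [h.ef, if_pos rfl]
  · rw [h.ef, if_pos rfl]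
  · rw [h.ee]
  · rw [h.ef, if_neg (by simp)]
  · rw [h.fe, if_neg (by simp)]
  · rw [h.ff]

theorem act_tt (u v w : Fin m ⊕ Fin m → F) :
    act (t u * t v) w = w + ⟪w, v⟫ • v + (⟪w, u⟫ + ⟪w, v⟫ * ⟪v, u⟫) • u := by
  rw [act_mul, act_t v, act_t, sympForm_add_left, sympForm_smul_left]

/-- Gram matrix of two hyperbolic pairs -/
structure Fr4 (a b c d : Fin m ⊕ Fin m → F) : Prop where
  ab : ⟪a, b⟫ = 1
  cd : ⟪c, d⟫ = 1
  ac : ⟪a, c⟫ = 0
  ad : ⟪a, d⟫ = 0
  bc : ⟪b, c⟫ = 0
  bd : ⟪b, d⟫ = 0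
  ba : ⟪b, a⟫ = 1
  dc : ⟪d, c⟫ = 1
  ca : ⟪c, a⟫ = 0
  da : ⟪d, a⟫ = 0
  cb : ⟪c, b⟫ = 0
  db : ⟪d, b⟫ = 0

theorem Two.fr4 (h : Two F) {i j : Fin m} (hij : i ≠ j) : Fr4 (F := F) (e i) (f i) (e j) (f j) := by
  have hji := hij.symm
  constructor <;> simp [h.ee, h.ff, h.ef, h.fe, hij, hji]

section start

variable {H : Subgroup (Matrix.symplecticGroup (Fin m) F)} {a b c d : Fin m ⊕ Fin m → F}

theorem Fr4.startA (h : Two F) (g : Fr4 a b c d) (y1 : t a * t b ∈ H) (y2 : t (a + c) * t d ∈ H)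
    (y3 : t c * t d ∈ H) : R H a b ∧ R H a c ∧ R H a d ∧ R H a (a + c) := by
  have hP : C1 {v | R H a v} := C1.class h a
  obtain ⟨ab, cd, ac, ad, bc, bd, ba, dc, ca, da, cb, db⟩ := g
  have two := h.one_add
  have pb : R H a b := y1
  have q1 : R H a (a + b + c) := by
    have h1 := pb.act y2
    rw [act_tt, act_tt] at h1
    simp only [sympForm_add_left, sympForm_add_right, sympForm_self, *, zero_smul, one_smul, zero_mul, one_mul,
      mul_zero, mul_one, zero_add, add_zero] at h1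
    convert h1 using 1
    abel
  have q2 : R H a (a + b + c + d) := by
    have h1 := pb.act (inv_mem y2)
    rw [mul_inv_rev, h.t_inv, h.t_inv, act_tt, act_tt] at h1
    simp only [sympForm_add_left, sympForm_add_right, sympForm_self, *, zero_smul, one_smul, zero_mul, one_mul,
      mul_zero, mul_one, zero_add, add_zero] at h1
    convert h1 using 1
    abel
  have pac : R H a (a + c) := hP.add' q1 pb (by simp only [sympForm_add_left, sympForm_self, *, zero_add, add_zero])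
    (by ext i; simp only [Pi.add_apply]; linear_combination (-(b i)) * two)
  have pd : R H a d := hP.add' q1 q2 (by
      simp only [sympForm_add_left, sympForm_add_right, sympForm_self, *, zero_add, add_zero])
    (by ext i; simp only [Pi.add_apply]; linear_combination (-(a i) - b i - c i) * two)
  have q3 : R H a (a + d) := by
    have h1 := pac.act y3
    rw [act_tt, act_tt] at h1
    simp only [sympForm_add_left, sympForm_add_right, sympForm_self, *, zero_smul, one_smul, zero_mul, one_mul,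
      mul_zero, mul_one, zero_add, add_zero] at h1
    convert h1 using 1
    ext i
    simp only [Pi.add_apply]
    linear_combination (-(c i)) * two
  have q4 : R H a (c + d) := hP.add' q3 pac (by
      simp only [sympForm_add_left, sympForm_add_right, sympForm_self, *, zero_add, add_zero])
    (by ext i; simp only [Pi.add_apply]; linear_combination (-(a i)) * two)
  have pc : R H a c := hP.add' q4 pd (by
      simp only [sympForm_add_left, sympForm_add_right, sympForm_self, *, zero_add, add_zero])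
    (by ext i; simp only [Pi.add_apply]; linear_combination (-(d i)) * two)
  exact ⟨pb, pc, pd, pac⟩

theorem Fr4.startB (h : Two F) (g : Fr4 a b c d) (y1 : t a * t d ∈ H) (y2 : t b * t d ∈ H)
    (y3 : t (a + c) * t c ∈ H) : R H a b ∧ R H a c ∧ R H a d ∧ R H a (a + c) := by
  have hP : C1 {v | R H a v} := C1.class h a
  obtain ⟨ab, cd, ac, ad, bc, bd, ba, dc, ca, da, cb, db⟩ := g
  have two := h.one_add
  have pd : R H a d := y1
  have pb : R H a b := pd.trans h (R.symm h y2)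
  have q1 : R H a (a + b + c) := by
    have h1 := pb.act y3
    rw [act_tt, act_tt] at h1
    simp only [sympForm_add_left, sympForm_add_right, sympForm_self, *, zero_smul, one_smul, zero_mul, one_mul,
      mul_zero, mul_one, zero_add, add_zero] at h1
    convert h1 using 1
    abel
  have pac : R H a (a + c) := hP.add' q1 pb (by simp only [sympForm_add_left, sympForm_self, *, zero_add, add_zero])
    (by ext i; simp only [Pi.add_apply]; linear_combination (-(b i)) * two)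
  have q3 : R H a (a + d) := by
    have h1 := pd.act y3
    rw [act_tt, act_tt] at h1
    simp only [sympForm_add_left, sympForm_add_right, sympForm_self, *, zero_smul, one_smul, zero_mul, one_mul,
      mul_zero, mul_one, zero_add, add_zero] at h1
    convert h1 using 1
    ext i
    simp only [Pi.add_apply]
    linear_combination (-(c i)) * two
  have q4 : R H a (c + d) := hP.add' q3 pac (by
      simp only [sympForm_add_left, sympForm_add_right, sympForm_self, *, zero_add, add_zero])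
    (by ext i; simp only [Pi.add_apply]; linear_combination (-(a i)) * two)
  have pc : R H a c := hP.add' q4 pd (by
      simp only [sympForm_add_left, sympForm_add_right, sympForm_self, *, zero_add, add_zero])
    (by ext i; simp only [Pi.add_apply]; linear_combination (-(d i)) * two)
  exact ⟨pb, pc, pd, pac⟩

/-- growth by an element of type `A`: `c, d` new, `w` fixed -/
theorem Fr4.growA (h : Two F) (g : Fr4 a b c d) {w : Fin m ⊕ Fin m → F} (wa : ⟪w, a⟫ = 0) (wc : ⟪w, c⟫ = 0)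
    (wd : ⟪w, d⟫ = 0) (hw : R H a w) (hb : R H a b) (y : t (a + c) * t (a + d) ∈ H) :
    R H a (a + b + c) ∧ R H a (a + b + d) := by
  obtain ⟨ab, cd, ac, ad, bc, bd, ba, dc, ca, da, cb, db⟩ := g
  have two := h.one_add
  have hwb : R H w b := (hw.symm h).trans h hb
  refine ⟨hw.trans h ?_, hw.trans h ?_⟩
  · have h1 := hwb.act (inv_mem y)
    rw [mul_inv_rev, h.t_inv, h.t_inv, act_tt, act_tt] at h1
    simp only [sympForm_add_left, sympForm_add_right, sympForm_self, *, zero_smul, one_smul, zero_mul, one_mul,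
      mul_zero, mul_one, zero_add, add_zero] at h1
    convert h1 using 1
    abel
  · have h1 := hwb.act y
    rw [act_tt, act_tt] at h1
    simp only [sympForm_add_left, sympForm_add_right, sympForm_self, *, zero_smul, one_smul, zero_mul, one_mul,
      mul_zero, mul_one, zero_add, add_zero] at h1
    convert h1 using 1
    abel

theorem Fr4.growB (h : Two F) (g : Fr4 a b c d) {w : Fin m ⊕ Fin m → F} (wa : ⟪w, a⟫ = 0) (wb : ⟪w, b⟫ = 0)
    (wc : ⟪w, c⟫ = 0) (wd : ⟪w, d⟫ = 0) (hw : R H a w) (hb : R H a b) (y : t (a + c) * t (b + d) ∈ H) :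
    R H a (a + b + c) ∧ R H a (a + b + d) := by
  obtain ⟨ab, cd, ac, ad, bc, bd, ba, dc, ca, da, cb, db⟩ := g
  have two := h.one_add
  have hwb : R H w b := (hw.symm h).trans h hb
  refine ⟨hw.trans h ?_, hw.trans h ?_⟩
  · have h1 := hwb.act y
    rw [act_tt, act_tt] at h1
    simp only [sympForm_add_left, sympForm_add_right, sympForm_self, *, zero_smul, one_smul, zero_mul, one_mul,
      mul_zero, mul_one, zero_add, add_zero] at h1
    convert h1 using 1
    abel
  · have h1 := (hw.symm h).act y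
    rw [act_tt, act_tt] at h1
    simp only [sympForm_add_left, sympForm_add_right, sympForm_self, *, zero_smul, one_smul, zero_mul, one_mul,
      mul_zero, mul_one, zero_add, add_zero] at h1
    convert h1 using 1
    abel

end start

end Cfsg.Agent.H500.Gs
end

-- part: H500/Gs/SpTwoD
section
set_option linter.all false
open scoped Cfsg.Agent.FastGrp

/-!
# `Sp_{2m}(2)`: the chain, the whole group, orders (helper500), S4327
-/

set_option autoImplicit false
set_option linter.unusedSimpArgs false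

namespace Cfsg.Agent.H500.Gs

open Subgroup Cfsg.Agent.H107.SpTr Cfsg.Agent.ClassicalGeometry.SympBasic

variable {m : ℕ} {F : Type*} [Field F]

local notation "⟪" u ", " v "⟫" => Cfsg.sympForm m F u v

theorem nef {u v w : Fin m ⊕ Fin m → F} (h1 : ⟪u, w⟫ = 1) (h2 : ⟪v, w⟫ = 0) : u ≠ v := by
  rintro rfl
  rw [h1] at h2
  exact one_ne_zero h2

theorem RS_three {G : Type*} [Group G] {x y1 y2 y3 : G} (h1 : RS x 2 (zpowers y1)) (h2 : RS x 2 (zpowers y2))
    (h3 : RS x 2 (zpowers y3)) : ∃ H, RS x 6 H ∧ y1 ∈ H ∧ y2 ∈ H ∧ y3 ∈ H :=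
  ⟨_, (h1.sup h2).sup h3, mem_sup_left (mem_sup_left (mem_zpowers y1)),
    mem_sup_left (mem_sup_right (mem_zpowers y2)), mem_sup_right (mem_zpowers y3)⟩

/-- **the chain**: `2k + 2` conjugates -/
theorem Two.chain (h : Two F) {x : Matrix.symplecticGroup (Fin m) F} (hx : TA x ∨ TB x) (h0 : 0 < m) (k : ℕ)
    (hk : 2 ≤ k) : k ≤ m → ∃ H, RS x (2 * k + 2) H ∧ ∀ v ∈ Ak m F k, v ≠ 0 → R H (e ⟨0, h0⟩) v := by
  induction k, hk using Nat.le_induction with
  | base =>
    intro hm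
    have h1 : 1 < m := by omega
    have hij : (⟨0, h0⟩ : Fin m) ≠ ⟨1, h1⟩ := by simp
    have g := h.fr4 hij
    have hP : ∀ H : Subgroup (Matrix.symplecticGroup (Fin m) F), C1 {v | R H (e ⟨0, h0⟩) v} := fun H => C1.class h _
    rcases hx with hx | hx
    · obtain ⟨H, hH, y1, y2, y3⟩ := RS_three (hx _ _ g.ab)
        (hx (e ⟨0, h0⟩ + e ⟨1, h1⟩) (f ⟨1, h1⟩) (by rw [sympForm_add_left, g.ad, g.cd, zero_add])) (hx _ _ g.cd)
      refine ⟨H, hH, ?_⟩
      obtain ⟨pb, pc, pd, pac⟩ := g.startA h y1 y2 y3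
      exact h.fill (hP H) h0 h1 (R.refl h _) pb pc pd pac
    · obtain ⟨H, hH, y1, y2, y3⟩ := RS_three
        (hx _ _ (ne_zero_left g.ab) (ne_zero_right g.cd) (nef g.ab g.db) g.ad)
        (hx _ _ (ne_zero_right g.ab) (ne_zero_right g.cd) (nef g.ba g.da) g.bd)
        (hx (e ⟨0, h0⟩ + e ⟨1, h1⟩) (e ⟨1, h1⟩)
          (ne_zero_left (v := f ⟨0, h0⟩) (by rw [sympForm_add_left, g.ab, g.cb, add_zero])) (ne_zero_left g.cd)
          (nef (w := f ⟨0, h0⟩) (by rw [sympForm_add_left, g.ab, g.cb, add_zero]) g.cb)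
          (by rw [sympForm_add_left, g.ac, sympForm_self, add_zero]))
      refine ⟨H, hH, ?_⟩
      obtain ⟨pb, pc, pd, pac⟩ := g.startB h y1 y2 y3
      exact h.fill (hP H) h0 h1 (R.refl h _) pb pc pd pac
  | succ k hk ih =>
    intro hkm
    obtain ⟨H, hH, hR⟩ := ih (by omega)
    have h1 : 1 < m := by omega
    have hkm' : k < m := by omega
    have n0 : (⟨0, h0⟩ : Fin m) ≠ ⟨k, hkm'⟩ := by simp; omega
    have n1 : (⟨1, h1⟩ : Fin m) ≠ ⟨k, hkm'⟩ := by simp; omega
    have n01 : (⟨0, h0⟩ : Fin m) ≠ ⟨1, h1⟩ := by simp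
    have g := h.fr4 n0
    have g1 := h.fr4 n1
    have g01 := h.fr4 n01
    have w0 := hR _ (e_mem (i := ⟨1, h1⟩) (by simp; omega)) (ne_zero_left g1.ab)
    have b0 := hR _ (f_mem (i := ⟨0, h0⟩) (by simp; omega)) (ne_zero_right g.ab)
    have key : ∃ y, RS x 2 (zpowers y) ∧ ∀ K, H ≤ K → y ∈ K →
        R K (e ⟨0, h0⟩) (e ⟨0, h0⟩ + f ⟨0, h0⟩ + e ⟨k, hkm'⟩) ∧
        R K (e ⟨0, h0⟩) (e ⟨0, h0⟩ + f ⟨0, h0⟩ + f ⟨k, hkm'⟩) := by
      rcases hx with hx | hx
      · refine ⟨_, hx (e ⟨0, h0⟩ + e ⟨k, hkm'⟩) (e ⟨0, h0⟩ + f ⟨k, hkm'⟩) ?_, fun K hK hy => ?_⟩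
        · rw [sympForm_add_left, sympForm_add_right, sympForm_add_right, sympForm_self, g.ad, g.ca, g.cd]
          simp
        · exact g.growA h g01.ca g1.ac g1.ad (w0.mono hK) (b0.mono hK) hy
      · refine ⟨_, hx (e ⟨0, h0⟩ + e ⟨k, hkm'⟩) (f ⟨0, h0⟩ + f ⟨k, hkm'⟩) ?_ ?_ ?_ ?_, fun K hK hy => ?_⟩
        · exact ne_zero_left (v := f ⟨0, h0⟩) (by rw [sympForm_add_left, g.ab, g.cb, add_zero])
        · exact ne_zero_left (v := e ⟨0, h0⟩) (by rw [sympForm_add_left, g.ba, g.da, add_zero])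
        · exact nef (w := f ⟨0, h0⟩) (by rw [sympForm_add_left, g.ab, g.cb, add_zero])
            (by rw [sympForm_add_left, sympForm_self, g.db, add_zero])
        · rw [sympForm_add_left, sympForm_add_right, sympForm_add_right, g.ab, g.ad, g.cb, g.cd]
          simp [h.one_add]
        · exact g.growB h g01.ca (by rw [h.comm]; exact g01.bc) g1.ac g1.ad (w0.mono hK) (b0.mono hK) hy
    obtain ⟨y, hy, hyK⟩ := key
    refine ⟨H ⊔ zpowers y, hH.sup hy, ?_⟩
    obtain ⟨r1, r2⟩ := hyK (H ⊔ zpowers y) le_sup_left (mem_sup_right (mem_zpowers y))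
    intro v hv hv0
    obtain ⟨a, ha, α, β, rfl⟩ := h.Ak_succ hkm' hv
    have hP : C1 {v | R (H ⊔ zpowers y) (e ⟨0, h0⟩) v} := C1.class h _
    have hm0 : e ⟨0, h0⟩ + f ⟨0, h0⟩ ∈ Ak m F k :=
      Submodule.add_mem _ (e_mem (by simp; omega)) (f_mem (by simp; omega))
    have hn0 : (e ⟨0, h0⟩ + f ⟨0, h0⟩ : Fin m ⊕ Fin m → F) ≠ 0 :=
      ne_zero_left (v := f ⟨0, h0⟩) (by rw [sympForm_add_left, g.ab, sympForm_self, add_zero])
    refine hP.grow h (h.nd_Ak hk (by omega)) (fun a ha ha0 => (hR a ha ha0).mono le_sup_left) g.cd ?_ ?_ hm0 hn0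
      hm0 hn0 r1 r2 ha hv0
    · intro a ha
      rw [h.form_e]
      exact (ha _ le_rfl).2
    · intro a ha
      rw [h.form_f]
      exact (ha _ le_rfl).1

/-- the seven transvections of a totally isotropic 3-space -/
theorem Two.seven (h : Two F) {a b c : Fin m ⊕ Fin m → F} (ab : ⟪a, b⟫ = 0) (ac : ⟪a, c⟫ = 0) (bc : ⟪b, c⟫ = 0) :
    t a * ((t b * t c) * (t (a + b) * t (a + c)) * (t (b + c) * t (a + b + c))) = 1 := by
  have ba : ⟪b, a⟫ = 0 := by rw [h.comm, ab]
  have ca : ⟪c, a⟫ = 0 := by rw [h.comm, ac]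
  have cb : ⟪c, b⟫ = 0 := by rw [h.comm, bc]
  have two := h.one_add
  apply ext_act
  intro x
  simp only [act_mul, act_t, sympForm_add_left, sympForm_add_right, sympForm_smul_left, sympForm_self, *,
    mul_zero, add_zero, zero_add, act_one]
  ext i
  simp only [Pi.add_apply, Pi.smul_apply, smul_eq_mul]
  linear_combination ((2 * ⟪x, a⟫ + ⟪x, b⟫ + ⟪x, c⟫) * a i + (2 * ⟪x, b⟫ + ⟪x, a⟫ + ⟪x, c⟫) * b i +
    (2 * ⟪x, c⟫ + ⟪x, a⟫ + ⟪x, b⟫) * c i) * two

/-- **the whole group** -/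
theorem Two.top (h : Two F) {H : Subgroup (Matrix.symplecticGroup (Fin m) F)} (h0 : 0 < m) (hm : 3 ≤ m)
    (hR : ∀ v, v ≠ 0 → R H (e ⟨0, h0⟩) v) : H = ⊤ := by
  have h1 : 1 < m := by omega
  have h2 : 2 < m := by omega
  have g1 := h.fr4 (F := F) (show (⟨0, h0⟩ : Fin m) ≠ ⟨1, h1⟩ by simp)
  have g2 := h.fr4 (F := F) (show (⟨0, h0⟩ : Fin m) ≠ ⟨2, h2⟩ by simp)
  have g3 := h.fr4 (F := F) (show (⟨1, h1⟩ : Fin m) ≠ ⟨2, h2⟩ by simp)
  have key := h.seven g1.ac g2.ac g3.ac
  have hpair : ∀ u v : Fin m ⊕ Fin m → F, u ≠ 0 → v ≠ 0 → t u * t v ∈ H := fun u v hu hv =>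
    (R.symm h (hR u hu)).trans h (hR v hv)
  have ha : t (e ⟨0, h0⟩ : Fin m ⊕ Fin m → F) ∈ H := by
    rw [← inv_mem_iff, inv_eq_of_mul_eq_one_right key]
    refine mul_mem (mul_mem (hpair _ _ (ne_zero_left g1.cd) (ne_zero_left g2.cd)) (hpair _ _ ?_ ?_)) (hpair _ _ ?_ ?_)
    · exact ne_zero_left (v := f ⟨0, h0⟩) (by rw [sympForm_add_left, g1.ab, g1.cb, add_zero])
    · exact ne_zero_left (v := f ⟨0, h0⟩) (by rw [sympForm_add_left, g1.ab, g2.cb, add_zero])
    · exact ne_zero_left (v := f ⟨1, h1⟩) (by rw [sympForm_add_left, g1.cd, g3.cb, add_zero])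
    · exact ne_zero_left (v := f ⟨0, h0⟩) (by rw [sympForm_add_left, sympForm_add_left, g1.ab, g1.cb, g2.cb, add_zero,
        add_zero])
  refine eq_top_of_transv fun v c hv => ?_
  rcases h c with rfl | rfl
  · rw [transv_zero]
    exact one_mem H
  · have h3 := mul_mem (inv_mem ha) (hR v hv)
    rwa [inv_mul_cancel_left] at h3

/-- **`2m + 2` conjugates generate** -/
theorem Two.reach_top (h : Two F) (hm : 3 ≤ m) {x : Matrix.symplecticGroup (Fin m) F} (hx : x ≠ 1) :
    RS x (2 * m + 2) ⊤ := by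
  have h0 : 0 < m := by omega
  obtain ⟨H, hH, hR⟩ := h.chain ((types h hx).imp id And.left) h0 m (by omega) le_rfl
  rwa [h.top h0 hm fun v hv => hR v (Ak_top v) hv] at hH

end Cfsg.Agent.H500.Gs
end

-- part: H500/Gs/SpTwo
section
set_option linter.all false
open scoped Cfsg.Agent.FastGrp

/-!
# `Sp_{2m}(2)`, `m ≥ 3`: the row of S4327 (helper500)
-/

set_option autoImplicit false
set_option linter.unusedSimpArgs false

namespace Cfsg.Agent.H500.Gs

open Subgroup Cfsg.Agent.H107.SpTr Cfsg.Agent.ClassicalGeometry.SympBasic Cfsg.Agent.H915.Gs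

variable {m : ℕ} {F : Type*} [Field F]

local notation "⟪" u ", " v "⟫" => Cfsg.sympForm m F u v

/-- the action on vectors -/
@[reducible] def actM (m : ℕ) (F : Type*) [Field F] :
    MulAction (Matrix.symplecticGroup (Fin m) F) (Fin m ⊕ Fin m → F) where
  smul := act
  one_smul := act_one
  mul_smul := act_mul

theorem ncard_Ak [Fintype F] {k : ℕ} (hk : k ≤ m) :
    ((Ak m F k : Set (Fin m ⊕ Fin m → F))).ncard = Fintype.card F ^ (2 * k) := by
  classical
  have h1 : (Ak m F k : Set (Fin m ⊕ Fin m → F)) = ↑(Fintype.piFinset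
      (Sum.elim (fun i : Fin m => if (i : ℕ) < k then (Finset.univ : Finset F) else {0})
        (fun i : Fin m => if (i : ℕ) < k then (Finset.univ : Finset F) else {0}))) := by
    ext x
    rw [Finset.mem_coe, Fintype.mem_piFinset]
    constructor
    · intro hx j
      rcases j with j | j
      · by_cases hj : (j : ℕ) < k
        · simp [hj]
        · simp only [Sum.elim_inl, hj, if_false, Finset.mem_singleton]
          exact (hx j (by omega)).1
      · by_cases hj : (j : ℕ) < k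
        · simp [hj]
        · simp only [Sum.elim_inr, hj, if_false, Finset.mem_singleton]
          exact (hx j (by omega)).2
    · intro hx i hi
      have h2 := hx (Sum.inl i)
      have h3 := hx (Sum.inr i)
      have hi' : ¬ (i : ℕ) < k := by omega
      simp only [Sum.elim_inl, Sum.elim_inr, hi', if_false, Finset.mem_singleton] at h2 h3
      exact ⟨h2, h3⟩
  have h2 : ∏ i : Fin m, (if (i : ℕ) < k then (Finset.univ : Finset F) else {0}).card = Fintype.card F ^ k := by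
    have h3 : ∀ i : Fin m, (if (i : ℕ) < k then (Finset.univ : Finset F) else {0}).card =
        if (i : ℕ) < k then Fintype.card F else 1 := by
      intro i
      split_ifs <;> simp
    rw [Finset.prod_congr rfl fun i _ => h3 i, Finset.prod_ite, Finset.prod_const, Finset.prod_const_one, mul_one,
      Fin.card_filter_val_lt, min_eq_right hk]
  rw [h1, Set.ncard_coe_finset, Fintype.card_piFinset, Fintype.prod_sum_type]
  simp only [Sum.elim_inl, Sum.elim_inr]
  rw [h2]
  ring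

theorem t_mem_Ak {k : ℕ} {u x : Fin m ⊕ Fin m → F} (hu : u ∈ Ak m F k) (hx : x ∈ Ak m F k) : act (t u) x ∈ Ak m F k := by
  rw [act_t]
  exact Submodule.add_mem _ hx (Submodule.smul_mem _ _ hu)

theorem act_ne_zero (g : Matrix.symplecticGroup (Fin m) F) {x : Fin m ⊕ Fin m → F} (hx : x ≠ 0) : act g x ≠ 0 :=
  fun h => hx (act_inj g (by rw [h, act_zero]))

/-- **the order** -/
theorem Two.dvd_card [Fintype F] (h : Two F) {H : Subgroup (Matrix.symplecticGroup (Fin m) F)} (h0 : 0 < m) {k : ℕ}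
    (hk : 1 ≤ k) (hkm : k ≤ m) (hR : ∀ v ∈ Ak m F k, v ≠ 0 → R H (e ⟨0, h0⟩) v) :
    Fintype.card F ^ (2 * k) - 1 ∣ Nat.card H := by
  let _ := actM m F
  have hfin : Finite (Matrix.symplecticGroup (Fin m) F) := inferInstance
  let K : Subgroup (Matrix.symplecticGroup (Fin m) F) :=
    closure {g | ∃ u ∈ Ak m F k, ∃ v ∈ Ak m F k, u ≠ 0 ∧ v ≠ 0 ∧ g = t u * t v}
  have hKH : K ≤ H := by
    rw [closure_le]
    rintro _ ⟨u, hu, v, hv, hu0, hv0, rfl⟩
    exact (R.symm h (hR u hu hu0)).trans h (hR v hv hv0)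
  have e0 : (e ⟨0, h0⟩ : Fin m ⊕ Fin m → F) ∈ Ak m F k := e_mem (by simp; omega)
  have e00 : (e ⟨0, h0⟩ : Fin m ⊕ Fin m → F) ≠ 0 :=
    ne_zero_left (v := f ⟨0, h0⟩) (by rw [h.ef, if_pos rfl])
  have horb : MulAction.orbit K (e ⟨0, h0⟩ : Fin m ⊕ Fin m → F) = (Ak m F k : Set _) \ {0} := by
    apply Set.Subset.antisymm
    · rintro _ ⟨g, rfl⟩
      change act (g : Matrix.symplecticGroup (Fin m) F) (e ⟨0, h0⟩) ∈ _
      refine ⟨?_, fun h1 => act_ne_zero _ e00 h1⟩
      have h1 : ∀ g ∈ K, (∀ x ∈ Ak m F k, act g x ∈ Ak m F k) ∧ ∀ x ∈ Ak m F k, act g⁻¹ x ∈ Ak m F k := by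
        intro g hg
        induction hg using closure_induction with
        | mem y hy =>
          obtain ⟨u, hu, v, hv, hu0, hv0, rfl⟩ := hy
          refine ⟨fun x hx => ?_, fun x hx => ?_⟩
          · rw [act_mul]
            exact t_mem_Ak hu (t_mem_Ak hv hx)
          · rw [mul_inv_rev, h.t_inv, h.t_inv, act_mul]
            exact t_mem_Ak hv (t_mem_Ak hu hx)
        | one => exact ⟨fun x hx => by rwa [act_one], fun x hx => by rwa [inv_one, act_one]⟩
        | mul y z _ _ hy hz =>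
          refine ⟨fun x hx => ?_, fun x hx => ?_⟩
          · rw [act_mul]
            exact hy.1 _ (hz.1 x hx)
          · rw [mul_inv_rev, act_mul]
            exact hz.2 _ (hy.2 x hx)
        | inv y _ hy => exact ⟨hy.2, fun x hx => by rw [inv_inv]; exact hy.1 x hx⟩
      exact (h1 g.1 g.2).1 _ e0
    · rintro v ⟨hv, hv0⟩
      have step : ∀ u ∈ Ak m F k, ∀ v ∈ Ak m F k, ⟪u, v⟫ = 1 → ∃ g ∈ K, act g u = v := by
        intro u hu v hv huv
        refine ⟨t u * t v, Subgroup.subset_closure ⟨u, hu, v, hv, ne_zero_left huv, ne_zero_right huv, rfl⟩, ?_⟩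
        rw [act_tt, huv, sympForm_self, h.comm, huv]
        ext i
        simp only [Pi.add_apply, Pi.smul_apply, smul_eq_mul]
        linear_combination (u i) * h.one_add
      obtain ⟨w, hw, hw1, hw2⟩ := h.Ak_both e0 hv e00 hv0
      obtain ⟨g1, hg1, h1⟩ := step _ e0 _ hw hw1
      obtain ⟨g2, hg2, h2⟩ := step _ hw _ hv (by rw [h.comm, hw2])
      refine ⟨⟨g2 * g1, mul_mem hg2 hg1⟩, ?_⟩
      change act (g2 * g1) _ = v
      rw [act_mul, h1, h2]
  have h1 := MulAction.index_stabilizer K (e ⟨0, h0⟩ : Fin m ⊕ Fin m → F)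
  have h2 := h1.trans (congrArg Set.ncard horb)
  rw [Set.ncard_sdiff_singleton_of_mem (Submodule.zero_mem _), ncard_Ak hkm] at h2
  rw [← h2]
  exact (Subgroup.index_dvd_card _).trans (Subgroup.card_dvd_of_le hKH)

/-- products of order three -/
theorem Two.cube (h : Two F) {u v : Fin m ⊕ Fin m → F} (huv : ⟪u, v⟫ = 1) : (t u * t v) ^ 3 = 1 := by
  have h1 := h.t_add huv
  have h2 := h.t_add (u := v) (v := u) (by rw [h.comm, huv])
  rw [add_comm] at h2
  have h3 : (t u * t v) ^ 3 = (t u * t v * t u) * (t v * t u * t v) := by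
    simp only [pow_succ, pow_zero, one_mul, mul_assoc]
  rw [h3, ← h1, ← h2, h.t_sq]

theorem Two.three (h : Two F) (h0 : 0 < m) {x : Matrix.symplecticGroup (Fin m) F} (hx : x ≠ 1) :
    ∃ w, RS x 2 (zpowers w) ∧ orderOf w = 3 := by
  have h3 : Fact (Nat.Prime 3) := ⟨Nat.prime_three⟩
  rcases types h hx with hA | ⟨-, hB⟩
  · have hef : ⟪e ⟨0, h0⟩, f ⟨0, h0⟩⟫ = 1 := by rw [h.ef, if_pos rfl]
    refine ⟨_, hA _ _ hef, orderOf_eq_prime (h.cube hef) fun h1 => ?_⟩
    have h2 := congrArg (fun g => act g (e ⟨0, h0⟩)) h1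
    simp only [act_one] at h2
    rw [act_tt, hef, sympForm_self, h.comm, hef] at h2
    refine ne_zero_right hef ?_
    have h4 : (f ⟨0, h0⟩ : Fin m ⊕ Fin m → F) = e ⟨0, h0⟩ := by
      rw [← h2]
      ext i
      simp only [Pi.add_apply, Pi.smul_apply, smul_eq_mul]
      linear_combination (-(e ⟨0, h0⟩ i)) * h.one_add
    rw [h4, sympForm_self] at hef
    exact absurd hef zero_ne_one
  · obtain ⟨u, hu⟩ : ∃ u, act x u ≠ u := by
      by_contra hc
      push Not at hc
      exact hx (ext_act fun y => by rw [hc, act_one])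
    have hu0 : u ≠ 0 := by
      rintro rfl
      exact hu (act_zero x)
    obtain ⟨v, hv1, hv2⟩ := h.exists_one_zero hu0 hu.symm
    have hpol : ∀ a b, ⟪a, act x b⟫ = ⟪act x a, b⟫ := by
      intro a b
      have h1 := hB (a + b)
      rw [act_add, sympForm_add_left, sympForm_add_right, sympForm_add_right, hB, hB, zero_add, add_zero] at h1
      rw [h.comm (act x a) b]
      linear_combination h1 - (⟪b, act x a⟫) * h.one_add
    have huv' : ⟪u, act x v⟫ = 0 := by rw [hpol, hv2]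
    have hvu' : ⟪v, act x u⟫ = 0 := by rw [h.comm, hv2]
    have hcomm : t u * t v * (t (act x u) * t (act x v)) = t (act x u) * t (act x v) * (t u * t v) := by
      have c1 := h.t_comm (hB u)
      have c2 := h.t_comm huv'
      have c3 := h.t_comm hvu'
      have c4 := h.t_comm (hB v)
      calc t u * t v * (t (act x u) * t (act x v)) = t u * (t v * t (act x u)) * t (act x v) := by group
        _ = (t u * t (act x u)) * (t v * t (act x v)) := by rw [c3]; group
        _ = t (act x u) * (t u * t (act x v)) * t v := by rw [c1, c4]; group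
        _ = t (act x u) * t (act x v) * (t u * t v) := by rw [c2]; group
    have hxy : x * (t u * t v) * x⁻¹ = t (act x u) * t (act x v) := by
      have : x * (t u * t v) * x⁻¹ = x * t u * x⁻¹ * (x * t v * x⁻¹) := by group
      rw [this, conj_t, conj_t]
    have hw : x * (t u * t v) * x⁻¹ * (t u * t v)⁻¹ = t (act x u) * t (act x v) * (t u * t v)⁻¹ := by rw [hxy]
    refine ⟨_, RS.comm x (t u * t v), orderOf_eq_prime ?_ fun h1 => ?_⟩
    · rw [hw]
      have hc : Commute (t (act x u) * t (act x v)) (t u * t v)⁻¹ := (Commute.inv_right hcomm.symm)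
      rw [hc.mul_pow, inv_pow, h.cube hv1, h.cube (by rw [form_act, hv1]), inv_one, one_mul]
    · rw [hw, mul_inv_eq_one] at h1
      have h2 := congrArg (fun g => act g u) h1
      rw [act_tt, act_tt, huv', hB u, hv1, sympForm_self, h.comm v u, hv1] at h2
      simp only [zero_smul, zero_mul, add_zero, zero_add, mul_one, one_smul] at h2
      have h4 : u = v := by
        ext i
        have := congrFun h2 i
        simp only [Pi.add_apply] at this
        linear_combination this + (u i) * h.one_add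
      exact h.ne_of_form hv1 h4

/-! ### Automorphisms -/

theorem center_bot [CharP F 2] (m : ℕ) : Subgroup.center (Matrix.symplecticGroup (Fin m) F) = ⊥ := by
  rw [Subgroup.eq_bot_iff_forall]
  intro A hA
  obtain ⟨a, ha⟩ := (LieClassical.SympCenter.mem_center_iff m A).1 hA
  apply Subtype.ext
  rw [ha]
  rcases Nat.eq_zero_or_pos m with rfl | hm
  · ext i j
    rcases i with i | i <;> exact i.elim0
  · have h1 : a * a = 1 := LieClassical.SympCenter.sq_eq_one_of_smul_mem hm (ha ▸ A.2)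
    have h2 : a = 1 := by
      rcases mul_self_eq_one_iff.1 h1 with h | h
      · exact h
      · rw [h, CharTwo.neg_eq]
    rw [h2, one_smul]
    rfl

/-- `Sp ≃* PSp` in characteristic two -/
noncomputable def toPSp (F : Type*) [Field F] [CharP F 2] (m : ℕ) :
    Matrix.symplecticGroup (Fin m) F ≃* Cfsg.PSp m F :=
  ((QuotientGroup.quotientMulEquivOfEq (center_bot (F := F) m)).trans QuotientGroup.quotientBot).symm

theorem conj_inj_of_center {G : Type*} [Group G] (h : Subgroup.center G = ⊥) :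
    Function.Injective (MulAut.conj : G →* MulAut G) := by
  rw [injective_iff_map_eq_one]
  intro g hg
  have h1 : g ∈ Subgroup.center G := by
    rw [Subgroup.mem_center_iff]
    intro y
    have h2 := congrArg (fun f : MulAut G => f y) hg
    simp only [MulAut.conj_apply, MulAut.one_apply] at h2
    rw [mul_inv_eq_iff_eq_mul] at h2
    exact h2.symm
  rwa [h, Subgroup.mem_bot] at h1

/-- all automorphisms of `Sp_{2m}(2)`, `m ≥ 3`, are inner -/
theorem exists_conj {F : Type} [Field F] [Fintype F] (hF : Fintype.card F = 2) (hc : CharP F 2) {m : ℕ}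
    (hm : 3 ≤ m) (y : MulAut (Matrix.symplecticGroup (Fin m) F)) : ∃ g, y = MulAut.conj g := by
  have h2 : Fact (Nat.Prime 2) := ⟨Nat.prime_two⟩
  have hc := S0814.result (F := F) 2 1 le_rfl (by rw [hF]; norm_num) m (by omega) (by omega)
  rw [if_neg (by omega)] at hc
  have hc' : Nat.card (MulAut (Cfsg.PSp m F)) = Nat.card (Cfsg.PSp m F) := by
    rw [hc]
    norm_num
  let q := toPSp F m
  have hG : Nat.card (Matrix.symplecticGroup (Fin m) F) = Nat.card (MulAut (Matrix.symplecticGroup (Fin m) F)) := by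
    rw [Nat.card_congr q.toEquiv, ← hc', Nat.card_congr (MulAut.congr q).toEquiv]
  have hfin : Finite (MulAut (Matrix.symplecticGroup (Fin m) F)) := inferInstance
  obtain ⟨g, hg⟩ := ((Nat.bijective_iff_injective_and_card _).2
    ⟨conj_inj_of_center (center_bot (F := F) m), hG⟩).2 y
  exact ⟨g, hg.symm⟩

theorem dvd_fermat {r : ℕ} (hr : r.Prime) (h2 : r ≠ 2) : r ∣ 2 ^ (r - 1) - 1 := by
  have hf : Fact r.Prime := ⟨hr⟩
  have h3 : (2 : ZMod r) ≠ 0 := by
    intro hc
    have : ((2 : ℕ) : ZMod r) = 0 := by exact_mod_cast hc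
    rw [ZMod.natCast_eq_zero_iff] at this
    exact h2 ((Nat.prime_dvd_prime_iff_eq hr Nat.prime_two).1 this)
  have h4 := ZMod.pow_card_sub_one_eq_one h3
  rw [← ZMod.natCast_eq_zero_iff, Nat.cast_sub Nat.one_le_two_pow]
  push_cast
  rw [h4, sub_self]

/-- **the row of `Sp_{2m}(2)`, `m ≥ 3`** -/
theorem row_sp_two (F : Type) [Field F] [Fintype F] (m : ℕ) (hm : 3 ≤ m) (hF : Fintype.card F = 2) :
    Row (Matrix.symplecticGroup (Fin m) F) := by
  have hc : CharP F 2 := by
    obtain ⟨p, hp⟩ := CharP.exists F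
    obtain ⟨n, hn, hn2⟩ := FiniteField.card F p
    rw [hF] at hn2
    have h3 : p ∣ 2 := by
      rw [hn2]
      exact dvd_pow_self p n.pos.ne'
    rwa [(Nat.prime_dvd_prime_iff_eq hn Nat.prime_two).1 h3] at hp
  have h : Two F := by
    intro a
    by_contra hcon
    push Not at hcon
    classical
    have h3 : ({0, 1, a} : Finset F).card ≤ Fintype.card F := Finset.card_le_univ _
    rw [Finset.card_insert_of_notMem (by simp [hcon.1.symm]), Finset.card_insert_of_notMem (by simp [hcon.2.symm]),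
      Finset.card_singleton, hF] at h3
    omega
  have hinj := conj_inj_of_center (center_bot (F := F) m)
  have h0 : 0 < m := by omega
  intro r y hr hr2 hy
  obtain ⟨x, rfl⟩ := exists_conj hF hc hm y
  have hx : x ≠ 1 := by
    rintro rfl
    rw [map_one, orderOf_one] at hy
    exact hy.ne_one rfl
  have hodd : r % 2 = 1 := by
    rcases hr.eq_two_or_odd with h1 | h1
    · exact absurd h1 hr2
    · exact h1
  have hr3 : 3 ≤ r := by
    have := hr.two_le
    omega
  have htop := h.reach_top hm hx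
  by_cases hrm : r ≤ 2 * m + 1
  · -- small primes
    right; right
    have key : ∀ {H : Subgroup (Matrix.symplecticGroup (Fin m) F)},
        (∀ v ∈ Ak m F ((r - 1) / 2), v ≠ 0 → R H (e ⟨0, h0⟩) v) → r ∣ Nat.card H := by
      intro H hR
      have h1 := h.dvd_card h0 (k := (r - 1) / 2) (by omega) (by omega) hR
      rw [hF, show 2 * ((r - 1) / 2) = r - 1 by omega] at h1
      exact (dvd_fermat hr hr2).trans h1
    have hdiv : r ∣ Nat.card (Matrix.symplecticGroup (Fin m) F) := by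
      rw [← Subgroup.card_top]
      exact key fun v _ _ => Subgroup.mem_top _
    refine ⟨hdiv, ?_⟩
    rcases Nat.lt_or_ge r 4 with h4 | h4
    · obtain rfl : r = 3 := by omega
      obtain ⟨w, hw, hw3⟩ := h.three h0 hx
      exact hw.ord hinj (by rw [Nat.card_zpowers, hw3])
    · obtain ⟨H, hH, hR⟩ := h.chain ((types h hx).imp id And.left) h0 ((r - 1) / 2) (by omega) (by omega)
      exact (hH.mono (by omega) (by omega)).ord hinj (key hR)
  · by_cases hdiv : r ∣ Nat.card (Matrix.symplecticGroup (Fin m) F)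
    · right; right
      exact ⟨hdiv, (htop.mono (by omega) (by omega)).ord hinj (by rwa [Subgroup.card_top])⟩
    · right; left
      exact ⟨hdiv, (htop.mono (by omega) (by omega)).reach⟩

/-- **the row of `PSp_{2m}(2)`, `m ≥ 3`** -/
theorem row_psp_two (F : Type) [Field F] [Fintype F] (m : ℕ) (hm : 3 ≤ m) (hF : Fintype.card F = 2) :
    Row (Cfsg.PSp m F) := by
  have hc : CharP F 2 := by
    obtain ⟨p, hp⟩ := CharP.exists F
    obtain ⟨n, hn, hn2⟩ := FiniteField.card F p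
    rw [hF] at hn2
    have h3 : p ∣ 2 := by
      rw [hn2]
      exact dvd_pow_self p n.pos.ne'
    rwa [(Nat.prime_dvd_prime_iff_eq hn Nat.prime_two).1 h3] at hp
  exact (row_sp_two F m hm hF).congr (toPSp F m)

end Cfsg.Agent.H500.Gs
end
end
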